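import Cfsg.Agent.Characters.Orthogonality
import Cfsg.Agent.GaloisConj.Basic
import Cfsg.Agent.Blocks.LocalRing
import Mathlib.FieldTheory.IntermediateField.Adjoin.Basic
import Mathlib.Data.Nat.Multiplicity
import Mathlib.NumberTheory.Padics.PadicVal.Basic

/-!
Values of p-rational characters at p-elements, and Blichfeldt's product.
-/

set_option autoImplicit false
set_option linter.all false

namespace CfsgLib.PRational

open scoped ComplexConjugate

/-- A field automorphism fixing a set fixes the subfield it generates over `ℚ`. -/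
theorem fix_adjoin (σ : ℂ ≃+* ℂ) {S : Set ℂ} (h : ∀ x ∈ S, σ x = x) {z : ℂ}
    (hz : z ∈ IntermediateField.adjoin ℚ S) : σ z = z := by
  induction hz using IntermediateField.adjoin_induction with
  | mem x hx => exact h x hx
  | algebraMap q => exact map_ratCast σ q
  | add x y _ _ hx hy => rw [map_add, hx, hy]
  | inv x _ hx => rw [map_inv₀, hx]
  | mul x y _ _ hx hy => rw [map_mul, hx, hy]

theorem exists_int_of_isIntegral_of_mul {z : ℂ} (hz : IsIntegral ℤ z) {a : ℤ} {b : ℕ} (hb : b ≠ 0)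
    (h : (b : ℂ) * z = a) : ∃ v : ℤ, z = v := by
  have hq : z = (algebraMap ℚ ℂ) ((a : ℚ) / b) := by
    have hb' : (b : ℂ) ≠ 0 := Nat.cast_ne_zero.2 hb
    simp only [map_div₀, map_intCast, map_natCast]
    field_simp
    linear_combination h
  rw [hq] at hz
  have hzq : IsIntegral ℤ ((a : ℚ) / b) :=
    (isIntegral_algebraMap_iff (algebraMap ℚ ℂ).injective).1 hz
  obtain ⟨v, hv⟩ := IsIntegrallyClosed.isIntegral_iff.1 hzq
  exact ⟨v, by rw [hq, ← hv]; simp⟩

variable {G : Type*} [Group G] [Finite G]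

theorem sum_pow_coprime (p k : ℕ) (hp : p.Prime) {μ : ℂ} (hμ : μ ^ (p ^ (k + 1)) = 1) :
    (∑ j ∈ (Finset.range (p ^ (k + 1))).filter (fun j => ¬ p ∣ j), μ ^ j) =
      (if μ = 1 then (p : ℂ) ^ (k + 1) else 0) - (if μ ^ p = 1 then (p : ℂ) ^ k else 0) := by
  have geom : ∀ (N : ℕ) (z : ℂ), z ^ N = 1 → ∑ j ∈ Finset.range N, z ^ j = if z = 1 then (N : ℂ) else 0 := by
    intro N z hz
    split_ifs with h
    · simp [h]
    · rw [geom_sum_eq h, hz, sub_self, zero_div]
  have hsplit := Finset.sum_filter_add_sum_filter_not (Finset.range (p ^ (k + 1)))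
    (fun j => p ∣ j) (fun j => μ ^ j)
  have hmul : (Finset.range (p ^ (k + 1))).filter (fun j => p ∣ j) =
      (Finset.range (p ^ k)).image (fun j => p * j) := by
    ext j
    simp only [Finset.mem_filter, Finset.mem_range, Finset.mem_image]
    constructor
    · rintro ⟨hj, c, rfl⟩
      refine ⟨c, ?_, rfl⟩
      rw [pow_succ'] at hj
      exact Nat.lt_of_mul_lt_mul_left hj
    · rintro ⟨c, hc, rfl⟩
      exact ⟨by rw [pow_succ']; exact Nat.mul_lt_mul_of_pos_left hc hp.pos, dvd_mul_right p c⟩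
  rw [hmul, Finset.sum_image (fun a _ b _ h => Nat.eq_of_mul_eq_mul_left hp.pos h)] at hsplit
  simp only [pow_mul] at hsplit
  rw [geom _ μ hμ, geom _ (μ ^ p) (by rw [← pow_mul, ← pow_succ', hμ])] at hsplit
  push_cast at hsplit
  linear_combination hsplit

/-- The value of a `p`-rational faithful character at a nontrivial `p`-element is `χ 1 - p j`
with `1 ≤ j ≤ χ 1 / (p - 1)`. -/
theorem value_of_prime_power (p : ℕ) (hp : p.Prime) {χ : G → ℂ} (hχ : Cfsg.IsCharacter G χ)
    (n : ℕ) (hn : χ 1 = n) {r : ℕ} (hr : 0 < r) (hpr : ¬ p ∣ r)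
    (hrat : ∀ g : G, χ g ∈ IntermediateField.adjoin ℚ
      ({Complex.exp (2 * Real.pi * Complex.I / r)} : Set ℂ))
    (u : G) (k : ℕ) (hu : orderOf u = p ^ (k + 1)) (hne : χ u ≠ χ 1) :
    ∃ j : ℕ, 1 ≤ j ∧ (p - 1) * j ≤ n ∧ χ u = (n : ℂ) - p * j := by
  classical
  obtain ⟨m, ρ, rfl⟩ := hχ
  obtain ⟨μ, hμ, hj, -⟩ := CfsgLib.Characters.exists_eigenvalues ρ u
  rw [hu] at hμ
  have hnm : n = Module.finrank ℂ (Fin m → ℂ) := by
    exact_mod_cast (hn.symm.trans (Representation.char_one ρ))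
  -- invariance under the powers prime to `p`
  have hinv : ∀ j : ℕ, ¬ p ∣ j → ρ.character (u ^ j) = ρ.character u := by
    intro j hpj
    have hcop : Nat.Coprime (p ^ (k + 1)) r :=
      Nat.Coprime.pow_left _ (hp.coprime_iff_not_dvd.2 hpr)
    obtain ⟨K, hK1, hK2⟩ := Nat.chineseRemainder hcop j 1
    have hKN : Nat.Coprime K (p ^ (k + 1) * r) := by
      apply Nat.Coprime.mul_right
      · apply Nat.Coprime.pow_right
        rw [Nat.coprime_comm, hp.coprime_iff_not_dvd]
        exact fun hd => hpj ((Nat.ModEq.dvd_iff (hK1.of_dvd (dvd_pow_self p (by omega))) dvd_rfl).1 hd)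
      · rw [Nat.Coprime, hK2.gcd_eq, Nat.gcd_one_left]
    haveI : NeZero (p ^ (k + 1) * r) :=
      ⟨Nat.mul_ne_zero (pow_ne_zero _ hp.ne_zero) hr.ne'⟩
    obtain ⟨σ, hσ⟩ := CfsgLib.GaloisConj.exists_ringEquiv_pow _ K hKN
    have hpowmod : ∀ (N a b : ℕ) (z : ℂ), z ^ N = 1 → a ≡ b [MOD N] → z ^ a = z ^ b := by
      intro N a b z hz hab
      rw [pow_eq_pow_mod a hz, pow_eq_pow_mod b hz, hab]
    have hfix : σ (ρ.character u) = ρ.character u := by
      refine fix_adjoin σ (fun x hx => ?_) (hrat u)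
      rw [Set.mem_singleton_iff] at hx
      subst hx
      have hz : Complex.exp (2 * Real.pi * Complex.I / r) ^ r = 1 :=
        (Complex.isPrimitiveRoot_exp r hr.ne').pow_eq_one
      rw [hσ _ (by rw [mul_comm (p ^ (k + 1)) r, pow_mul, hz, one_pow]), hpowmod r K 1 _ hz hK2, pow_one]
    have h1 := hj 1
    rw [pow_one] at h1
    conv_rhs => rw [← hfix, h1, map_sum]
    rw [hj]
    refine Finset.sum_congr rfl fun i _ => ?_
    rw [pow_one, hσ _ (by rw [pow_mul, hμ i, one_pow]), hpowmod _ K j _ (hμ i) hK1]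
  set J := (Finset.range (p ^ (k + 1))).filter (fun j => ¬ p ∣ j) with hJ
  set A := (Finset.univ.filter fun i => μ i = 1).card with hA
  set B := (Finset.univ.filter fun i => μ i ^ p = 1).card with hB
  have hsum : (J.card : ℂ) * ρ.character u = (p : ℂ) ^ (k + 1) * A - (p : ℂ) ^ k * B := by
    have e : ∑ j ∈ J, ρ.character (u ^ j) = (J.card : ℂ) * ρ.character u := by
      rw [Finset.sum_congr rfl (fun j hjJ => hinv j (Finset.mem_filter.1 hjJ).2), Finset.sum_const,
        nsmul_eq_mul]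
    rw [← e, Finset.sum_congr rfl (fun j _ => hj j), Finset.sum_comm,
      Finset.sum_congr rfl (fun i _ => sum_pow_coprime p k hp (hμ i)), Finset.sum_sub_distrib,
      Finset.sum_ite, Finset.sum_ite]
    simp [hA, hB, mul_comm]
  have hJc : J.card = p ^ k * (p - 1) := by
    have h1 := Nat.totient_prime_pow_succ hp k
    rw [← h1, Nat.totient_eq_card_coprime, hJ]
    congr 1
    refine Finset.filter_congr fun j _ => ?_
    rw [Nat.coprime_pow_left_iff (Nat.succ_pos k), hp.coprime_iff_not_dvd]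
  have hkey : ((p - 1 : ℕ) : ℂ) * ρ.character u = (((p : ℤ) * A - B : ℤ) : ℂ) := by
    have hpk : (p : ℂ) ^ k ≠ 0 := pow_ne_zero _ (Nat.cast_ne_zero.2 hp.ne_zero)
    rw [hJc] at hsum
    refine mul_left_cancel₀ hpk ?_
    push_cast at hsum ⊢
    rw [pow_succ] at hsum
    linear_combination hsum
  obtain ⟨v, hv⟩ := exists_int_of_isIntegral_of_mul (CfsgLib.Characters.char_isIntegral ρ u)
    (b := p - 1) (by have := hp.two_le; omega) hkey
  have hAB : A ≤ B := Finset.card_le_card (fun i hi => by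
    simp only [Finset.mem_filter, Finset.mem_univ, true_and] at hi ⊢
    rw [hi, one_pow])
  have hBn : B ≤ n := by
    rw [hnm]; exact (Finset.card_filter_le _ _).trans (by simp)
  have hkeyZ : ((p : ℤ) - 1) * v = p * A - B := by
    rw [hv, Nat.cast_sub hp.one_lt.le] at hkey
    exact_mod_cast hkey
  -- the congruence modulo `p`
  have hdvd : (p : ℤ) ∣ (n : ℤ) - v := by
    obtain ⟨M, hM⟩ := CfsgLib.Blocks.exists_isPModular p hp
    haveI : M.IsPrime := CfsgLib.Blocks.IsPModular.isPrime hM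
    haveI : CharP (Cfsg.AlgInt ⧸ M) p := by
      refine ⟨fun a => ?_⟩
      rw [← map_natCast (Ideal.Quotient.mk M), Ideal.Quotient.eq_zero_iff_mem]
      exact CfsgLib.Blocks.IsPModular.natCast_mem_iff hM a
    haveI : Fact p.Prime := ⟨hp⟩
    let w : Fin (Module.finrank ℂ (Fin m → ℂ)) → Cfsg.AlgInt := fun i =>
      ⟨μ i, IsIntegral.of_pow (Nat.pos_of_ne_zero (pow_ne_zero _ hp.ne_zero))
        (by rw [hμ i]; exact isIntegral_one)⟩
    have hw : ∀ i, Ideal.Quotient.mk M (w i) = 1 := by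
      intro i
      have h1 : w i ^ (p ^ (k + 1)) = 1 := Subtype.ext (by simpa [w] using hμ i)
      have h2 : (Ideal.Quotient.mk M (w i) - 1) ^ (p ^ (k + 1)) = 0 := by
        rw [sub_pow_char_pow, ← map_pow, h1, map_one, one_pow, sub_self]
      exact sub_eq_zero.1 (eq_zero_of_pow_eq_zero h2)
    have hvw : ((v : Cfsg.AlgInt)) = ∑ i, w i := by
      apply Subtype.ext
      have h1 := hj 1
      rw [pow_one] at h1
      push_cast
      rw [← hv, h1]
      simp [w]
    have h0 : Ideal.Quotient.mk M ((n : Cfsg.AlgInt) - (v : Cfsg.AlgInt)) = 0 := by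
      rw [map_sub, hvw, map_sum, Finset.sum_congr rfl (fun i _ => hw i), map_natCast, hnm]
      simp
    rw [← CharP.intCast_eq_zero_iff (Cfsg.AlgInt ⧸ M) p]
    rw [← h0]
    push_cast [map_sub, map_natCast, map_intCast]
    rfl
  obtain ⟨j, hjv⟩ := hdvd
  have hp2 := hp.two_le
  have hnv : v ≤ n := by
    by_contra hlt
    push Not at hlt
    have h1 : (p : ℤ) * A ≤ p * B := mul_le_mul_of_nonneg_left (by exact_mod_cast hAB) (by positivity)
    have h2 : ((p : ℤ) - 1) * B ≤ ((p : ℤ) - 1) * n :=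
      mul_le_mul_of_nonneg_left (by exact_mod_cast hBn) (by omega)
    have h3 : ((p : ℤ) - 1) * n < ((p : ℤ) - 1) * v := mul_lt_mul_of_pos_left hlt (by omega)
    linarith
  have hne' : v ≠ n := fun e => hne (by rw [hn, hv, e]; push_cast; rfl)
  have hj0 : 1 ≤ j := by
    by_contra hlt
    have : (p : ℤ) * j ≤ 0 := mul_nonpos_of_nonneg_of_nonpos (by positivity) (by omega)
    omega
  have hjn : ((p : ℤ) - 1) * j ≤ n := by
    refine le_of_mul_le_mul_left ?_ (by omega : (0 : ℤ) < p)
    have e : (p : ℤ) * (((p : ℤ) - 1) * j) = ((p : ℤ) - 1) * n - (p * A - B) := by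
      rw [← hkeyZ, ← mul_sub, hjv]; ring
    have hA0 : (0 : ℤ) ≤ p * A := by positivity
    have hB' : (B : ℤ) ≤ n := by exact_mod_cast hBn
    rw [e, sub_mul, one_mul]
    linarith
  refine ⟨j.toNat, by omega, ?_, ?_⟩
  · zify [hp.one_lt.le]
    rw [Int.toNat_of_nonneg (by omega)]
    exact hjn
  · have hjj : ((j.toNat : ℕ) : ℂ) = (j : ℂ) := by
      conv_rhs => rw [← Int.toNat_of_nonneg (a := j) (by omega)]
      push_cast; rfl
    rw [hv, hjj, show v = (n : ℤ) - p * j by omega]
    push_cast; rfl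

theorem isCharacter_one : Cfsg.IsCharacter G (fun _ => (1 : ℂ)) := by
  have : (fun _ => (1 : ℂ)) = (Representation.trivial ℂ G ℂ).character := by
    funext g
    simp [Representation.character]
  rw [this]
  exact CfsgLib.Characters.isCharacter_character _

theorem isCharacter_pow {χ : G → ℂ} (hχ : Cfsg.IsCharacter G χ) :
    ∀ i : ℕ, Cfsg.IsCharacter G (fun g => χ g ^ i)
  | 0 => by simpa using isCharacter_one
  | i + 1 => by
    have := CfsgLib.Characters.isCharacter_mul (isCharacter_pow hχ i) hχ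
    simpa [pow_succ, Pi.mul_def] using this

/-- Blichfeldt: the sum over the group of an integer polynomial in a character is a multiple of
the group order. -/
theorem sum_eval_char {χ : G → ℂ} (hχ : Cfsg.IsCharacter G χ) [Fintype G] (Q : Polynomial ℤ) :
    ∃ z : ℤ, ∑ g : G, Polynomial.aeval (χ g) Q = (Nat.card G : ℂ) * z := by
  have h1 : ∀ i : ℕ, ∃ c : ℕ, ∑ g : G, χ g ^ i = (Nat.card G : ℂ) * c := by
    intro i
    obtain ⟨c, hc⟩ := CfsgLib.Characters.classInner_characters (isCharacter_pow hχ i) isCharacter_one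
    refine ⟨c, ?_⟩
    rw [← hc, Cfsg.classInner, ← mul_assoc,
      mul_inv_cancel₀ CfsgLib.Characters.natCard_ne_zero, one_mul]
    simp
  choose c hc using h1
  refine ⟨∑ i ∈ Q.support, Q.coeff i * c i, ?_⟩
  simp only [Polynomial.aeval_eq_sum_range, zsmul_eq_mul]
  push_cast
  rw [Finset.mul_sum, Finset.sum_comm]
  refine (Finset.sum_subset ?_ ?_).symm.trans (Finset.sum_congr rfl fun i _ => ?_)
  · intro i hi
    exact Finset.mem_range.2 (Nat.lt_succ_of_le (Polynomial.le_natDegree_of_mem_supp i hi))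
  · intro i _ hi
    rw [Polynomial.notMem_support_iff.1 hi]
    simp
  · rw [← Finset.mul_sum, hc]
    ring

end CfsgLib.PRational
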